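import Cfsg.Agent.NilCover.Projective

/-!
The main theorem on nilpotent minimal covers of groups between `PSL(n,q)` and `PGL(n,q)`.
-/

set_option autoImplicit false

namespace Cfsg.Agent.NilCover

open Matrix Subgroup
open scoped MatrixGroups

variable {F : Type*} [Field F] [Fintype F] {p : ℕ} [Fact p.Prime] [CharP F p]

/-- The subdiagonal nilpotent matrix. -/
def subDiag (n : ℕ) (F : Type*) [Field F] : Matrix (Fin n) (Fin n) F :=
  Matrix.of fun i j => if (i : ℕ) = (j : ℕ) + 1 then 1 else 0

theorem det_one_add_subDiag (n : ℕ) : (1 + subDiag n F).det = 1 := by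
  rw [Matrix.det_of_lowerTriangular _ (fun i j hij => ?_)]
  · exact Finset.prod_eq_one fun i _ => by simp [subDiag]
  · have h : (i : ℕ) < (j : ℕ) := hij
    simp [subDiag, Matrix.one_apply_ne (show i ≠ j from fun e => by subst e; omega), show (i : ℕ) ≠ (j : ℕ) + 1 by omega]

theorem subDiag_pow_apply (n k : ℕ) (i j : Fin n) :
    (subDiag n F ^ k) i j = if (i : ℕ) = (j : ℕ) + k then 1 else 0 := by
  induction k generalizing i with
  | zero => simp [Matrix.one_apply, Fin.ext_iff]
  | succ k ih =>
    rw [pow_succ', Matrix.mul_apply]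
    by_cases hi : (i : ℕ) = 0
    · rw [if_neg (by omega)]
      exact Finset.sum_eq_zero fun l _ => by simp [subDiag, show (i : ℕ) ≠ (l : ℕ) + 1 by omega]
    · rw [Finset.sum_eq_single ⟨(i : ℕ) - 1, by omega⟩]
      · rw [ih]
        simp only [subDiag, Matrix.of_apply]
        rw [if_pos (by show (i : ℕ) = (i : ℕ) - 1 + 1; omega), one_mul]
        exact if_congr (by show (i : ℕ) - 1 = _ ↔ _; omega) rfl rfl
      · intro l _ hl
        have : (i : ℕ) ≠ (l : ℕ) + 1 := fun h => hl (Fin.ext (by show (l : ℕ) = (i : ℕ) - 1; omega))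
        simp [subDiag, this]
      · simp

/-- The regular unipotent element. -/
def regUnip (n : ℕ) (F : Type*) [Field F] [Fintype F] : SpecialLinearGroup (Fin n) F :=
  ⟨1 + subDiag n F, det_one_add_subDiag n⟩

theorem isLineElt_regUnip (m : ℕ) :
    IsLineElt p (SpecialLinearGroup.toGL (regUnip (m + 1) F)) (Pi.single (Fin.last m) (1 : F)) where
  ne_zero h := one_ne_zero (α := F) (by simpa using congrFun h (Fin.last m))
  fix := by
    show (1 + subDiag (m + 1) F) *ᵥ _ = _
    rw [Matrix.add_mulVec, Matrix.one_mulVec, Matrix.mulVec_single_one]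
    ext i
    have : (i : ℕ) ≠ m + 1 := by omega
    simp [subDiag, this]
  only v hv := by
    change (1 + subDiag (m + 1) F) *ᵥ v = v at hv
    rw [Matrix.add_mulVec, Matrix.one_mulVec, add_eq_left] at hv
    refine ⟨v (Fin.last m), funext fun j => ?_⟩
    by_cases hj : j = Fin.last m
    · subst hj; simp
    · have hjm : (j : ℕ) < m := Fin.val_lt_last hj
      have := congrFun hv ⟨(j : ℕ) + 1, by omega⟩
      rw [Matrix.mulVec, dotProduct, Finset.sum_eq_single j] at this
      · simp [subDiag] at this
        simp [this, hj]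
      · intro l _ hl
        have : (j : ℕ) ≠ (l : ℕ) := fun h => hl (Fin.ext h.symm)
        simp [subDiag, this]
      · simp
  pow := by
    refine ⟨m + 1, ?_⟩
    apply Units.ext
    rw [Units.val_pow_eq_pow_val]
    show (1 + subDiag (m + 1) F) ^ p ^ (m + 1) = 1
    rw [add_pow_char_pow_of_commute _ _ (Commute.one_left _), one_pow]
    refine add_eq_left.mpr ?_
    ext i j
    have : m + 1 < p ^ (m + 1) := Nat.lt_pow_self (Fact.out : p.Prime).one_lt
    rw [subDiag_pow_apply, if_neg (by omega)]
    rfl

/-- A transvection in the special linear group. -/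
def tsv {n : ℕ} (i j : Fin n) (hij : i ≠ j) (c : F) : SpecialLinearGroup (Fin n) F :=
  ⟨transvection i j c, det_transvection_of_ne i j hij c⟩

variable {n : ℕ} {G : Subgroup (GL (Fin n) F ⧸ center (GL (Fin n) F))}

/-- An element of the special linear group as an element of `G`. -/
noncomputable def inG (hG : ((SpecialLinearGroup.toGL : SpecialLinearGroup (Fin n) F →* GL (Fin n) F).range).map
    (toPGL n F) ≤ G) (g : SpecialLinearGroup (Fin n) F) : G :=
  ⟨toPGL n F (SpecialLinearGroup.toGL g), hG ⟨_, ⟨g, rfl⟩, rfl⟩⟩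

theorem mem_lift_inG {hG : ((SpecialLinearGroup.toGL : SpecialLinearGroup (Fin n) F →* GL (Fin n) F).range).map
    (toPGL n F) ≤ G} {g : SpecialLinearGroup (Fin n) F} {A : Subgroup G} (h : inG hG g ∈ A) :
    SpecialLinearGroup.toGL g ∈ lift A := mem_lift (y := inG hG g) rfl h

theorem not_cover_of_three (p : ℕ) [Fact p.Prime] [CharP F p] (hn : 3 ≤ n)
    (hG : ((SpecialLinearGroup.toGL : SpecialLinearGroup (Fin n) F →* GL (Fin n) F).range).map
      (toPGL n F) ≤ G) :
    ¬ ∃ 𝓐 : Finset (Subgroup G), ((∀ A ∈ 𝓐, A ≠ ⊤) ∧ (∀ g : G, ∃ A ∈ 𝓐, g ∈ A)) ∧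
      (∀ 𝓑 : Finset (Subgroup G), (∀ A ∈ 𝓑, A ≠ ⊤) ∧ (∀ g : G, ∃ A ∈ 𝓑, g ∈ A) → 𝓐.card ≤ 𝓑.card) ∧
      (∀ A ∈ 𝓐, Group.IsNilpotent A) := by
  obtain ⟨m, rfl⟩ := Nat.exists_eq_add_of_le' (show 1 ≤ n by omega)
  set e : Fin (m + 1) → F := Pi.single (Fin.last m) 1 with he
  set i : Fin (m + 1) := ⟨m - 2, by omega⟩ with hi
  set j : Fin (m + 1) := ⟨m - 1, by omega⟩ with hj
  have hij : i ≠ j := by simp [hi, hj, Fin.ext_iff]; omega
  have hjl : j ≠ Fin.last m := by simp [hj, Fin.ext_iff]; omega
  let h := tsv (F := F) i j hij 1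
  let u := regUnip (m + 1) F
  have hu : IsLineElt p (SpecialLinearGroup.toGL u) e := isLineElt_regUnip m
  have hhe : ((SpecialLinearGroup.toGL h : GL (Fin (m + 1)) F) : Matrix (Fin (m + 1)) (Fin (m + 1)) F) *ᵥ e = e := by
    show transvection i j (1 : F) *ᵥ e = e
    simp [transvection, Matrix.add_mulVec, he, Matrix.mulVec_single_one]
    ext k
    simp [Matrix.one_apply, Matrix.single_apply, Pi.single_apply, hjl]
  have hu' : IsLineElt p (SpecialLinearGroup.toGL (h * u * h⁻¹)) e := by
    have := hu.conj (SpecialLinearGroup.toGL h)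
    rwa [hhe, ← map_inv, ← map_mul, ← map_mul] at this
  refine no_nilpotent_minimal_cover (ι := Unit) (κ := Bool) (fun _ => borel G e)
    (fun k => bif k then inG hG (h * u * h⁻¹) else inG hG u) ?_ (by simp) ?_ ?_
  · intro _
    refine borel_ne_top (SpecialLinearGroup.toGL (tsv (F := F) i (Fin.last m)
      (by simp [hi, Fin.ext_iff]; omega) 1)) (hG ⟨_, ⟨_, rfl⟩, rfl⟩) ?_
    rintro ⟨c, -, hc⟩
    have := congrFun hc i
    have hil : i ≠ Fin.last m := by simp [hi, Fin.ext_iff]; omega
    change (transvection i (Fin.last m) (1 : F) *ᵥ e) i = _ at this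
    simp [he, transvection, Matrix.mulVec_single_one, Matrix.single_apply, hil] at this
  · have hne : ∀ A : Subgroup G, Group.IsNilpotent A → inG hG u ∈ A → inG hG (h * u * h⁻¹) ∉ A := by
      intro A hA h1 h2
      have ht := trace_mul_eq (lift_nilpotent hA) (mem_lift_inG h1) (mem_lift_inG h2) hu.pow hu'.pow
      rw [← map_mul] at ht
      set N := subDiag (m + 1) F
      set E := Matrix.single i j (1 : F)
      have hinv : ((h⁻¹ : SpecialLinearGroup (Fin (m + 1)) F) : Matrix (Fin (m + 1)) (Fin (m + 1)) F)
          = 1 - E := by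
        have e1 : h⁻¹ = tsv i j hij (-1 : F) := inv_eq_of_mul_eq_one_right (Subtype.ext (by
          show transvection i j (1 : F) * transvection i j (-1) = 1
          rw [transvection_mul_transvection_same (h := hij)]; simp))
        rw [e1]
        show transvection i j (-1 : F) = 1 - E
        simp [transvection, E, sub_eq_add_neg, ← Matrix.single_neg]
      have hval : ((SpecialLinearGroup.toGL (u * (h * u * h⁻¹)) : GL (Fin (m + 1)) F) :
          Matrix (Fin (m + 1)) (Fin (m + 1)) F) = (1 + N) * ((1 + E) * (1 + N) * (1 - E)) := by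
        show u.1 * (h.1 * u.1 * (h⁻¹).1) = _
        rw [← hinv]
        simp [u, h, regUnip, tsv, transvection, E, N]
      have hEE : E * E = 0 := Matrix.single_mul_single_of_ne (1 : F) i j i hij.symm 1
      have hM : (1 + E) * (1 + N) * (1 - E) = 1 + N + (E * N - N * E) - E * N * E := by
        calc (1 + E) * (1 + N) * (1 - E) = 1 + N + (E * N - N * E) - E * N * E - E * E := by noncomm_ring
          _ = _ := by rw [hEE, sub_zero]
      have hNE : N * E = Matrix.single j j 1 := by
        ext a b
        rw [Matrix.mul_apply, Finset.sum_eq_single i]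
        · by_cases hb : b = j
          · subst hb
            simp only [E, N, subDiag, Matrix.of_apply, Matrix.single_apply, and_self, if_true, mul_one, and_true]
            exact if_congr (by simp [hi, hj, Fin.ext_iff]; omega) rfl rfl
          · simp [E, Matrix.single_apply, Ne.symm hb]
        · intro l _ hl
          simp [E, Matrix.single_apply, Ne.symm hl]
        · simp
      have hdiag : ∀ k : ℕ, 0 < k → (N ^ k).trace = 0 := fun k hk =>
        Finset.sum_eq_zero fun a _ => by
          show (N ^ k) a a = 0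
          simp only [N, subDiag_pow_apply]
          rw [if_neg (by omega)]
      have h1' : N.trace = 0 := by simpa using hdiag 1 one_pos
      have h2' : (N * N).trace = 0 := by simpa [pow_two] using hdiag 2 two_pos
      have h3' : (N * (E * N * E)).trace = 1 := by
        rw [show N * (E * N * E) = (N * E) * (N * E) by simp only [mul_assoc], hNE,
          Matrix.single_mul_single_same, Matrix.trace_single_eq_same, one_mul]
      have h4' : (E * N * E).trace = 0 := by
        rw [Matrix.trace_mul_comm, ← mul_assoc, hEE, zero_mul, Matrix.trace_zero]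
      rw [hval, hM, add_mul, one_mul, mul_sub, mul_add, mul_add, mul_one, mul_sub] at ht
      simp only [Matrix.trace_add, Matrix.trace_sub, Matrix.trace_one, Fintype.card_fin, h1', h2', h3',
        h4', Matrix.trace_mul_comm E N, sub_self, sub_zero, add_zero] at ht
      rw [Matrix.trace_mul_comm N (E * N), mul_assoc E N N, Matrix.trace_mul_comm E (N * N), mul_assoc,
        sub_self] at ht
      exact one_ne_zero (α := F) (by linear_combination -ht)
    intro A hA k l hk hl
    cases k <;> cases l <;> simp only [cond_true, cond_false] at hk hl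
    · rfl
    · exact absurd hl (hne A hA hk)
    · exact absurd hk (hne A hA hl)
    · rfl
  · intro A hA _ k hk g hg
    refine ⟨(), ?_⟩
    cases k <;> simp only [cond_true, cond_false] at hk
    · exact mem_borel (line_stable (lift_nilpotent hA) (mem_lift_inG hk) hu) hg
    · exact mem_borel (line_stable (lift_nilpotent hA) (mem_lift_inG hk) hu') hg

end Cfsg.Agent.NilCover
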