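import Cfsg.Agent.NilCover.Linear

/-!
The two-dimensional case of the theorem on nilpotent minimal covers.
-/

set_option autoImplicit false

namespace Cfsg.Agent.NilCover

open Matrix Subgroup
open scoped MatrixGroups

variable {F : Type*} [Field F]

/-- The image of `SL(2,F)` in `PGL(2,F)`. -/
noncomputable def pslImage (F : Type*) [Field F] : Subgroup (GL (Fin 2) F ⧸ center (GL (Fin 2) F)) :=
  ((SpecialLinearGroup.toGL : SpecialLinearGroup (Fin 2) F →* GL (Fin 2) F).range).map (toPGL 2 F)

/-- A representative of each point of the projective line. -/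
def point : Option F → Fin 2 → F
  | some c => ![c, 1]
  | none => ![1, 0]

/-- An element moving the second basis vector to `point L`. -/
def mover : Option F → SpecialLinearGroup (Fin 2) F
  | some c => ⟨!![1, c; 0, 1], by simp⟩
  | none => ⟨!![0, 1; -1, 0], by simp⟩

theorem exists_point {w : Fin 2 → F} (hw : w ≠ 0) : ∃ L, ∃ s : F, s ≠ 0 ∧ w = s • point L := by
  by_cases h : w 1 = 0
  · refine ⟨none, w 0, fun h0 => hw ?_, ?_⟩
    · ext i; fin_cases i <;> simp [h0, h]
    · ext i; fin_cases i <;> simp [point, h]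
  · refine ⟨some (w 0 / w 1), w 1, h, ?_⟩
    ext i; fin_cases i <;> simp [point]; field_simp

theorem point_unique {L L' : Option F} {s : F} (h : s • point L = point L') : L = L' := by
  have h0 := congrFun h 0
  have h1 := congrFun h 1
  cases L with
  | none => cases L' with
    | none => rfl
    | some d => simp [point] at h1
  | some c => cases L' with
    | none =>
      simp [point] at h0 h1
      simp [h1] at h0
    | some d =>
      simp [point] at h0 h1
      simp [h1] at h0
      rw [h0]

theorem mover_mulVec (L : Option F) :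
    ((mover L : SpecialLinearGroup (Fin 2) F) : Matrix (Fin 2) (Fin 2) F) *ᵥ Pi.single (1 : Fin 2) 1
      = point L := by
  cases L <;> ext i <;> fin_cases i <;> simp [mover, point]

/-- A nonscalar matrix has one-dimensional eigenspaces. -/
theorem eigen_unique (M : Matrix (Fin 2) (Fin 2) F) {l : F} {v w : Fin 2 → F}
    (hns : ∀ c : F, M ≠ Matrix.scalar (Fin 2) c) (hv : v ≠ 0) (hMv : M *ᵥ v = l • v)
    (hMw : M *ᵥ w = l • w) : ∃ c : F, c • v = w := by
  by_cases hd : v 0 * w 1 - v 1 * w 0 = 0
  · by_cases h0 : v 0 = 0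
    · have h1 : v 1 ≠ 0 := fun h1 => hv (by ext i; fin_cases i <;> simp [h0, h1])
      refine ⟨w 1 / v 1, ?_⟩
      rw [h0, zero_mul, zero_sub, neg_eq_zero, mul_eq_zero] at hd
      ext i
      fin_cases i
      · simp [h0, hd.resolve_left h1]
      · simp [h1]
    · refine ⟨w 0 / v 0, ?_⟩
      ext i
      fin_cases i
      · simp [h0]
      · simp; field_simp; linear_combination -hd
  · exfalso
    have a0 := congrFun hMv 0
    have a1 := congrFun hMv 1
    have b0 := congrFun hMw 0
    have b1 := congrFun hMw 1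
    simp [Matrix.mulVec, dotProduct, Fin.sum_univ_two] at a0 a1 b0 b1
    refine hns l ?_
    ext i j
    fin_cases i <;> fin_cases j <;> simp <;> refine mul_right_cancel₀ hd ?_
    · linear_combination w 1 * a0 - v 1 * b0
    · linear_combination -(w 0) * a0 + v 0 * b0
    · linear_combination w 1 * a1 - v 1 * b1
    · linear_combination -(w 0) * a1 + v 0 * b1

theorem exists_eigen (M : Matrix (Fin 2) (Fin 2) F) (l : F)
    (h : (M 0 0 - l) * (M 1 1 - l) - M 0 1 * M 1 0 = 0) : ∃ v, v ≠ 0 ∧ M *ᵥ v = l • v := by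
  obtain ⟨v, hv, hMv⟩ := Matrix.exists_mulVec_eq_zero_iff.mpr
    (show (M - Matrix.scalar (Fin 2) l).det = 0 by rw [Matrix.det_fin_two]; simpa using h)
  refine ⟨v, hv, ?_⟩
  rw [Matrix.sub_mulVec, sub_eq_zero] at hMv
  rw [hMv]
  ext i
  simp [Matrix.mulVec_diagonal]

/-- If `M` anticommutes with an invertible matrix then its trace vanishes. -/
theorem trace_zero_of_anti (h2 : (2 : F) ≠ 0) (M Q : Matrix (Fin 2) (Fin 2) F) (hQ : Q.det = 1)
    (h : M * Q = -(Q * M)) : M 0 0 + M 1 1 = 0 := by
  have hQu : Q * Q⁻¹ = 1 := Matrix.mul_nonsing_inv _ (by rw [hQ]; exact isUnit_one)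
  have hQu' : Q⁻¹ * Q = 1 := Matrix.nonsing_inv_mul _ (by rw [hQ]; exact isUnit_one)
  have e : M = -(Q * M * Q⁻¹) := by
    rw [← neg_mul, ← h, mul_assoc, hQu, mul_one]
  have := congrArg Matrix.trace e
  rw [Matrix.trace_neg, Matrix.trace_mul_cycle, hQu', one_mul, Matrix.trace_fin_two] at this
  exact (mul_eq_zero.mp (show (2 : F) * (M 0 0 + M 1 1) = 0 by linear_combination this)).resolve_left h2

/-- Lifts to `SL₂` of commuting elements commute up to a sign. -/
theorem sign_comm {x y : SpecialLinearGroup (Fin 2) F}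
    (h : Commute (toPGL 2 F (SpecialLinearGroup.toGL x)) (toPGL 2 F (SpecialLinearGroup.toGL y))) :
    x.1 * y.1 = y.1 * x.1 ∨ x.1 * y.1 = -(y.1 * x.1) := by
  have h1 : (SpecialLinearGroup.toGL (y * x))⁻¹ * SpecialLinearGroup.toGL (x * y)
      ∈ center (GL (Fin 2) F) := by
    refine QuotientGroup.eq.mp ?_
    show toPGL 2 F _ = toPGL 2 F _
    simp only [map_mul]
    exact h.eq.symm
  obtain ⟨c, hc⟩ := GeneralLinearGroup.mem_center_iff_val_mem_range_scalar.mp h1
  rw [← map_inv, ← map_mul] at hc
  change Matrix.scalar (Fin 2) c = ((y * x)⁻¹ * (x * y)).1 at hc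
  have h2 : (y * x) * ((y * x)⁻¹ * (x * y)) = x * y := by group
  have h3 := congrArg Subtype.val h2
  change (y.1 * x.1) * ((y * x)⁻¹ * (x * y)).1 = x.1 * y.1 at h3
  rw [← hc] at h3
  have hdet := congrArg Matrix.det hc
  rw [((y * x)⁻¹ * (x * y)).2, Matrix.det_fin_two] at hdet
  simp at hdet
  rcases mul_self_eq_one_iff.mp hdet with rfl | rfl
  · left; rw [← h3, map_one, mul_one]
  · right; rw [← h3, map_neg, map_one, mul_neg, mul_one]

variable [Fintype F] {p : ℕ} [Fact p.Prime] [CharP F p]

theorem coe_toGL_mul (g : SpecialLinearGroup (Fin 2) F) :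
    ((SpecialLinearGroup.toGL g : GL (Fin 2) F) : Matrix (Fin 2) (Fin 2) F) = g.1 := rfl

/-- A matrix in a nilpotent group with a regular unipotent element has square determinant. -/
theorem mem_psl_of_line (p : ℕ) [Fact p.Prime] [CharP F p] {H : Subgroup (GL (Fin 2) F)} (hH : Group.IsNilpotent H)
    (hu : SpecialLinearGroup.toGL (regUnip 2 F) ∈ H) {g : GL (Fin 2) F} (hg : g ∈ H) :
    toPGL 2 F g ∈ pslImage F := by
  have hLE : IsLineElt p (SpecialLinearGroup.toGL (regUnip 2 F)) (Pi.single (Fin.last 1) (1 : F)) :=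
    isLineElt_regUnip 1
  obtain ⟨c, hc0, hc⟩ := line_stable hH hu hLE hg
  set M := (g : Matrix (Fin 2) (Fin 2) F) with hM
  have h01 : M 0 1 = 0 := by simpa [← hM] using congrFun hc 0
  -- a power of order prime to `p` commutes with the unipotent element
  set v := (orderOf g).factorization p
  set h := g ^ p ^ v with hh
  have hpu : ∃ k : ℕ, SpecialLinearGroup.toGL (regUnip 2 F) ^ p ^ k = (1 : GL (Fin 2) F) := hLE.pow
  have hcop : (orderOf h).Coprime p := by
    rw [hh, orderOf_pow' _ (pow_ne_zero _ (Fact.out : p.Prime).ne_zero),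
      Nat.gcd_eq_right (Nat.ordProj_dvd _ _)]
    exact (Nat.coprime_ordCompl (Fact.out : p.Prime) (orderOf_pos g).ne').symm
  have hcomm : Commute h (SpecialLinearGroup.toGL (regUnip 2 F)) := by
    obtain ⟨k, hk⟩ := hpu
    have := OddLocal.commute_of_coprime_orderOf (N := H) hH (x := ⟨h, H.pow_mem hg _⟩)
      (y := ⟨_, hu⟩) (by
        rw [Subgroup.orderOf_mk, Subgroup.orderOf_mk]
        exact (hcop.pow_right k).coprime_dvd_right (orderOf_dvd_of_pow_eq_one hk))
    exact congrArg Subtype.val this.eq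
  have hpow : ∀ k : ℕ, ((g ^ k : GL (Fin 2) F) : Matrix (Fin 2) (Fin 2) F) 0 1 = 0 ∧
      ((g ^ k : GL (Fin 2) F) : Matrix (Fin 2) (Fin 2) F) 0 0 = M 0 0 ^ k ∧
      ((g ^ k : GL (Fin 2) F) : Matrix (Fin 2) (Fin 2) F) 1 1 = M 1 1 ^ k := by
    intro k
    induction k with
    | zero => simp
    | succ k ih =>
      simp only [pow_succ, Units.val_mul, Matrix.mul_apply, Fin.sum_univ_two, ih.1, ih.2.1, ih.2.2, ← hM, h01]
      simp
  have heq := congrArg (fun x : GL (Fin 2) F => (x : Matrix (Fin 2) (Fin 2) F) 1 0) hcomm.eq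
  rw [Units.val_mul, Units.val_mul, show ((SpecialLinearGroup.toGL (regUnip 2 F) : GL (Fin 2) F) :
    Matrix (Fin 2) (Fin 2) F) = 1 + subDiag 2 F from rfl] at heq
  simp [Matrix.mul_apply, Fin.sum_univ_two, subDiag, hh] at heq
  rw [← Units.val_pow_eq_pow_val, (hpow _).2.2, (hpow _).2.1] at heq
  have hdiag : M 0 0 = M 1 1 := (iterateFrobenius_inj F p v) (by
    simp only [iterateFrobenius_def]; linear_combination -heq)
  have hdet : M.det = M 0 0 ^ 2 := by
    rw [Matrix.det_fin_two, h01, ← hdiag]; ring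
  have hne : M 0 0 ≠ 0 := fun h0 => by
    rw [h0] at hdet
    simp [hM] at hdet
    exact (Matrix.isUnit_iff_isUnit_det _).mp g.isUnit |>.ne_zero (by simpa [hM] using hdet)
  refine ⟨SpecialLinearGroup.toGL ⟨(M 0 0)⁻¹ • M, ?_⟩, ⟨_, rfl⟩, ?_⟩
  · rw [Matrix.det_smul, hdet, Fintype.card_fin, inv_pow, inv_mul_cancel₀ (pow_ne_zero _ hne)]
  · refine QuotientGroup.eq.mpr (GeneralLinearGroup.mem_center_iff_val_mem_range_scalar.mpr ⟨M 0 0, ?_⟩)
    set x : SpecialLinearGroup (Fin 2) F := ⟨(M 0 0)⁻¹ • M, _⟩
    rw [show (SpecialLinearGroup.toGL x)⁻¹ = SpecialLinearGroup.toGL x⁻¹ from (map_inv _ x).symm,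
      Units.val_mul]
    have hx : M = Matrix.scalar (Fin 2) (M 0 0) * x.1 := by
      show M = Matrix.scalar (Fin 2) (M 0 0) * ((M 0 0)⁻¹ • M)
      ext i j
      simp [Matrix.diagonal_mul, hne]
    show Matrix.scalar (Fin 2) (M 0 0) = (x⁻¹).1 * M
    rw [hx, ← mul_assoc, ← (Matrix.scalar_commute (M 0 0) (fun r => mul_comm _ r) (x⁻¹).1).eq, mul_assoc,
      show (x⁻¹).1 * x.1 = 1 from congrArg Subtype.val (inv_mul_cancel x), mul_one, ← hx]

variable {G : Subgroup (GL (Fin 2) F ⧸ center (GL (Fin 2) F))}

theorem not_cover_of_two_gt (p : ℕ) [Fact p.Prime] [CharP F p]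
    (hG : pslImage F ≤ G) (hne : ¬ G ≤ pslImage F) :
    ¬ ∃ 𝓐 : Finset (Subgroup G), ((∀ A ∈ 𝓐, A ≠ ⊤) ∧ (∀ g : G, ∃ A ∈ 𝓐, g ∈ A)) ∧
      (∀ 𝓑 : Finset (Subgroup G), (∀ A ∈ 𝓑, A ≠ ⊤) ∧ (∀ g : G, ∃ A ∈ 𝓑, g ∈ A) → 𝓐.card ≤ 𝓑.card) ∧
      (∀ A ∈ 𝓐, Group.IsNilpotent A) := by
  set w : SpecialLinearGroup (Fin 2) F := mover none
  let u := regUnip 2 F
  have hu : IsLineElt p (SpecialLinearGroup.toGL u) (Pi.single (Fin.last 1) (1 : F)) := isLineElt_regUnip 1
  have hu' := hu.conj (SpecialLinearGroup.toGL w)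
  rw [← map_inv, ← map_mul, ← map_mul] at hu'
  refine no_nilpotent_minimal_cover (ι := Unit) (κ := Bool) (fun _ => (pslImage F).subgroupOf G)
    (fun k => bif k then inG hG (w * u * w⁻¹) else inG hG u) ?_ (by simp) ?_ ?_
  · intro _ h
    exact hne (subgroupOf_eq_top.mp h)
  · have hdiff : ∀ A : Subgroup G, Group.IsNilpotent A → inG hG u ∈ A → inG hG (w * u * w⁻¹) ∉ A := by
      intro A hA h1 h2
      obtain ⟨c, hc⟩ := line_unique (lift_nilpotent hA) (mem_lift_inG h1) hu (mem_lift_inG h2) hu'
      have := congrFun hc 0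
      change (c • Pi.single (Fin.last 1) (1 : F)) 0 = (w.1 *ᵥ Pi.single (Fin.last 1) 1) 0 at this
      simp [w, mover] at this
    intro A hA k l hk hl
    cases k <;> cases l <;> simp only [cond_true, cond_false] at hk hl
    · rfl
    · exact absurd hl (hdiff A hA hk)
    · exact absurd hk (hdiff A hA hl)
    · rfl
  · have hbase : ∀ A : Subgroup G, Group.IsNilpotent A → inG hG u ∈ A →
        A ≤ (pslImage F).subgroupOf G := by
      intro A hA h1 y hy
      obtain ⟨g, hg⟩ := QuotientGroup.mk'_surjective (center (GL (Fin 2) F))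
        (y : GL (Fin 2) F ⧸ center (GL (Fin 2) F))
      have := mem_psl_of_line p (lift_nilpotent hA) (mem_lift_inG h1) (mem_lift hg.symm hy)
      rw [mem_subgroupOf, ← hg]
      exact this
    intro A hA _ k hk g hg
    refine ⟨(), ?_⟩
    cases k <;> simp only [cond_true, cond_false] at hk
    · exact hbase A hA hk hg
    · set φ := (MulAut.conj (inG hG w)⁻¹).toMonoidHom
      have hA' : Group.IsNilpotent (A.map φ) := by
        haveI := hA
        exact Group.nilpotent_of_surjective (φ.subgroupMap A) (φ.subgroupMap_surjective A)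
      have hd : inG hG u ∈ A.map φ := by
        refine ⟨_, hk, ?_⟩
        apply Subtype.ext
        simp [φ, inG, map_mul, mul_assoc]
      have h1 := hbase _ hA' hd (mem_map_of_mem φ hg)
      set S := (pslImage F).subgroupOf G
      have hw : inG hG w ∈ S := ⟨_, ⟨w, rfl⟩, rfl⟩
      have h2 := S.mul_mem (S.mul_mem hw h1) (S.inv_mem hw)
      simpa [φ, mul_assoc] using h2

theorem not_cover_of_two_eq (p : ℕ) [Fact p.Prime] [CharP F p] (hq : 4 ≤ Fintype.card F)
    (hG : pslImage F ≤ G) (hle : G ≤ pslImage F) :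
    ¬ ∃ 𝓐 : Finset (Subgroup G), ((∀ A ∈ 𝓐, A ≠ ⊤) ∧ (∀ g : G, ∃ A ∈ 𝓐, g ∈ A)) ∧
      (∀ 𝓑 : Finset (Subgroup G), (∀ A ∈ 𝓑, A ≠ ⊤) ∧ (∀ g : G, ∃ A ∈ 𝓑, g ∈ A) → 𝓐.card ≤ 𝓑.card) ∧
      (∀ A ∈ 𝓐, Group.IsNilpotent A) := by
  classical
  -- a split semisimple element
  obtain ⟨a, ha0, ha1, ha2⟩ : ∃ a : F, a ≠ 0 ∧ a ≠ 1 ∧ a ≠ -1 := by
    obtain ⟨a, ha⟩ := Finset.exists_mem_notMem_of_card_lt_card (s := ({0, 1, -1} : Finset F))
      (t := Finset.univ) (lt_of_le_of_lt Finset.card_le_three (by rw [Finset.card_univ]; omega))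
    simp only [Finset.mem_insert, Finset.mem_singleton, not_or] at ha
    exact ⟨a, ha.2.1, ha.2.2.1, ha.2.2.2⟩
  have haa : a ≠ a⁻¹ := fun h => by
    have : a * a = 1 := by nth_rw 2 [h]; exact mul_inv_cancel₀ ha0
    rcases mul_self_eq_one_iff.mp this with h | h
    · exact ha1 h
    · exact ha2 h
  let d : SpecialLinearGroup (Fin 2) F := ⟨!![a, 0; 0, a⁻¹], by simp [ha0]⟩
  let uu : Option F → SpecialLinearGroup (Fin 2) F := fun L => mover L * regUnip 2 F * (mover L)⁻¹
  have hu : ∀ L, IsLineElt p (SpecialLinearGroup.toGL (uu L)) (point L) := fun L => by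
    have h0 : IsLineElt p (SpecialLinearGroup.toGL (regUnip 2 F)) (Pi.single (Fin.last 1) (1 : F)) :=
      isLineElt_regUnip 1
    have := h0.conj (SpecialLinearGroup.toGL (mover L))
    rw [← map_inv, ← map_mul, ← map_mul] at this
    convert this using 1
    exact (mover_mulVec L).symm
  have hlift : ∀ y : G, ∃ g : SpecialLinearGroup (Fin 2) F, inG hG g = y := fun y => by
    obtain ⟨_, ⟨g, rfl⟩, hg⟩ := hle y.2
    exact ⟨g, Subtype.ext hg⟩
  -- `d` lies in no nilpotent subgroup with a unipotent element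
  have hdu : ∀ A : Subgroup G, Group.IsNilpotent A → inG hG d ∈ A → ∀ L, inG hG (uu L) ∉ A := by
    intro A hA hd L hL
    set gd : GL (Fin 2) F := SpecialLinearGroup.toGL d
    set gu : GL (Fin 2) F := SpecialLinearGroup.toGL (uu L)
    have hdpow : gd ^ (Fintype.card F - 1) = 1 := by
      have e : ∀ k : ℕ, d.1 ^ k = !![a ^ k, 0; 0, a⁻¹ ^ k] := by
        intro k
        induction k with
        | zero => ext i j; fin_cases i <;> fin_cases j <;> simp
        | succ k ih =>
          rw [pow_succ, ih]
          ext i j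
          fin_cases i <;> fin_cases j <;> simp [d, Matrix.mul_apply, Fin.sum_univ_two, pow_succ]
      apply Units.ext
      rw [Units.val_pow_eq_pow_val]
      show d.1 ^ _ = 1
      rw [e, FiniteField.pow_card_sub_one_eq_one a ha0,
        FiniteField.pow_card_sub_one_eq_one a⁻¹ (inv_ne_zero ha0)]
      ext i j
      fin_cases i <;> fin_cases j <;> simp
    obtain ⟨k, hk⟩ := (hu L).pow
    have hcop : (orderOf gu).Coprime (orderOf gd) := by
      obtain ⟨f, hpr, hf⟩ := FiniteField.card F p
      refine Nat.Coprime.coprime_dvd_left (orderOf_dvd_of_pow_eq_one hk) ((Nat.Coprime.coprime_dvd_right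
        (orderOf_dvd_of_pow_eq_one hdpow) ?_).pow_left k)
      refine hpr.coprime_iff_not_dvd.mpr fun h => hpr.one_lt.ne' (Nat.dvd_one.mp ?_)
      have h' : p ∣ Fintype.card F := hf ▸ dvd_pow_self p f.ne_zero
      have := Nat.dvd_sub h' h
      rwa [show Fintype.card F - (Fintype.card F - 1) = 1 by omega] at this
    have hH := lift_nilpotent hA
    have h0 := OddLocal.commute_of_coprime_orderOf (N := lift A) hH
      (x := ⟨gu, mem_lift_inG hL⟩) (y := ⟨gd, mem_lift_inG hd⟩)
      (by rw [Subgroup.orderOf_mk, Subgroup.orderOf_mk]; exact hcop)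
    have hcomm : (uu L).1 * d.1 = d.1 * (uu L).1 :=
      congrArg (fun x : GL (Fin 2) F => (x : Matrix (Fin 2) (Fin 2) F)) (congrArg Subtype.val h0.eq)
    have hfix : (uu L).1 *ᵥ (d.1 *ᵥ point L) = d.1 *ᵥ point L := by
      rw [Matrix.mulVec_mulVec, hcomm, ← Matrix.mulVec_mulVec]
      exact congrArg _ (hu L).fix
    obtain ⟨s, hs⟩ := (hu L).only _ hfix
    have hs0 := congrFun hs 0
    have hs1 := congrFun hs 1
    have hval : (uu L).1 = (mover L).1 * (regUnip 2 F).1 * Matrix.adjugate (mover L).1 := rfl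
    have hr : (regUnip 2 F).1 = !![1, 0; 1, 1] := by
      ext i j
      fin_cases i <;> fin_cases j <;> simp [regUnip, subDiag]
    rw [hval, hr] at hcomm
    cases L with
    | none =>
      have h01 := congrArg (fun M : Matrix (Fin 2) (Fin 2) F => M 0 1) hcomm
      simp [mover, d, regUnip, subDiag, Matrix.mul_apply, Fin.sum_univ_two,
        Matrix.adjugate_fin_two] at h01
      exact haa h01.symm
    | some c =>
      by_cases hc : c = 0
      · subst hc
        have h10 := congrArg (fun M : Matrix (Fin 2) (Fin 2) F => M 1 0) hcomm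
        simp [mover, d, regUnip, subDiag, Matrix.mul_apply, Fin.sum_univ_two,
          Matrix.adjugate_fin_two] at h10
        exact haa h10
      · simp [point, d, Matrix.mulVec, dotProduct, Fin.sum_univ_two] at hs0 hs1
        rw [hs1] at hs0
        exact haa (hs0.resolve_right hc).symm
  refine no_nilpotent_minimal_cover (ι := Option F) (κ := Option (Option F))
    (fun L => borel G (point L)) (fun k => inG hG (k.elim d uu)) ?_ ?_ ?_ ?_
  · intro L
    cases L with
    | none =>
      refine borel_ne_top (SpecialLinearGroup.toGL (mover (none : Option F)))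
        (inG hG (mover none)).2 ?_
      rintro ⟨c, -, hc⟩
      have := congrFun hc 1
      change ((mover (none : Option F)).1 *ᵥ point none) 1 = _ at this
      simp [mover, point] at this
    | some c =>
      by_cases hc : c = 0
      · subst hc
        let g : SpecialLinearGroup (Fin 2) F := ⟨!![1, 1; 0, 1], by simp⟩
        refine borel_ne_top (SpecialLinearGroup.toGL g) (inG hG g).2 ?_
        rintro ⟨s, -, hs⟩
        have h0 := congrFun hs 0
        change (g.1 *ᵥ point (some 0)) 0 = _ at h0
        simp [g, point] at h0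
      · let g : SpecialLinearGroup (Fin 2) F := ⟨!![1, 0; 1, 1], by simp⟩
        refine borel_ne_top (SpecialLinearGroup.toGL g) (inG hG g).2 ?_
        rintro ⟨s, -, hs⟩
        have h0 := congrFun hs 0
        have h1 := congrFun hs 1
        change (g.1 *ᵥ point (some c)) 0 = _ at h0
        change (g.1 *ᵥ point (some c)) 1 = _ at h1
        simp [g, point] at h0 h1
        exact hc (mul_left_cancel₀ hc (by linear_combination c * h1 - h0))
  · simp
  · intro A hA k l hk hl
    cases k with
    | none => cases l with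
      | none => rfl
      | some L => exact absurd hl (hdu A hA hk L)
    | some L => cases l with
      | none => exact absurd hk (hdu A hA hl L)
      | some L' =>
        obtain ⟨s, hs⟩ := line_unique (lift_nilpotent hA) (mem_lift_inG hk) (hu L) (mem_lift_inG hl) (hu L')
        rw [point_unique hs]
  · intro A hA _ k hk g hg
    cases k with
    | some L => exact ⟨L, mem_borel (line_stable (lift_nilpotent hA) (mem_lift_inG hk) (hu L)) hg⟩
    | none =>
      change inG hG d ∈ A at hk
      obtain ⟨x, rfl⟩ := hlift g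
      suffices h : ∃ v, v ≠ 0 ∧ ∃ c : F, x.1 *ᵥ v = c • v by
        obtain ⟨v, hv, c, hc⟩ := h
        obtain ⟨L, s, hs, rfl⟩ := exists_point hv
        refine ⟨L, mem_subgroupOf.mpr ⟨SpecialLinearGroup.toGL x, mem_stabLine_of_eq (c := c)
          (fun h0 => hv (by rw [h0, smul_zero])) ?_, rfl⟩⟩
        show x.1 *ᵥ point L = c • point L
        rw [Matrix.mulVec_smul, smul_comm] at hc
        exact smul_right_injective _ hs hc
      have hd1 : inG hG d ≠ 1 := fun e => by
        have h1 : SpecialLinearGroup.toGL d ∈ center (GL (Fin 2) F) :=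
          (QuotientGroup.eq_one_iff _).mp (congrArg Subtype.val e)
        obtain ⟨c, hc⟩ := GeneralLinearGroup.mem_center_iff_val_mem_range_scalar.mp h1
        have h00 := congrArg (fun M : Matrix (Fin 2) (Fin 2) F => M 0 0) hc
        have h11 := congrArg (fun M : Matrix (Fin 2) (Fin 2) F => M 1 1) hc
        simp [d] at h00 h11
        exact haa (h00.symm.trans h11)
      obtain ⟨y, hy, hy1, hyc⟩ := exists_central hA hk hd1
      obtain ⟨z, rfl⟩ := hlift y
      have hns : ∀ c : F, z.1 ≠ Matrix.scalar (Fin 2) c := fun c hc => hy1 (Subtype.ext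
        ((QuotientGroup.eq_one_iff _).mpr
          (GeneralLinearGroup.mem_center_iff_val_mem_range_scalar.mpr ⟨c, hc.symm⟩)))
      have hdz := sign_comm ((hyc _ hk).map G.subtype)
      have hxz := sign_comm ((hyc _ hg).map G.subtype)
      have hzdet : z.1 0 0 * z.1 1 1 - z.1 0 1 * z.1 1 0 = 1 := by
        rw [← Matrix.det_fin_two]; exact z.2
      -- an eigenline of `z`
      obtain ⟨l, v, hv, hzv⟩ : ∃ (l : F) (v : Fin 2 → F), v ≠ 0 ∧ z.1 *ᵥ v = l • v := by
        rcases hdz with e | e
        · have h01 := congrArg (fun M : Matrix (Fin 2) (Fin 2) F => M 0 1) e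
          simp [d, Matrix.mul_apply, Fin.sum_univ_two, Matrix.vecMul, dotProduct] at h01
          have : z.1 0 1 = 0 := by
            by_contra h0
            exact haa (mul_left_cancel₀ h0 (by linear_combination -h01))
          refine ⟨z.1 0 0, exists_eigen _ _ ?_⟩
          rw [this]; ring
        · by_cases h2 : (2 : F) = 0
          · have h01 := congrArg (fun M : Matrix (Fin 2) (Fin 2) F => M 0 1) e
            simp [d, Matrix.mul_apply, Fin.sum_univ_two, Matrix.vecMul, dotProduct] at h01
            have : z.1 0 1 = 0 := by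
              by_contra h0
              exact haa (mul_left_cancel₀ h0 (by linear_combination -h01 + a * z.1 0 1 * h2))
            refine ⟨z.1 0 0, exists_eigen _ _ ?_⟩
            rw [this]; ring
          · have h00 := congrArg (fun M : Matrix (Fin 2) (Fin 2) F => M 0 0) e
            have h01 := congrArg (fun M : Matrix (Fin 2) (Fin 2) F => M 0 1) e
            simp [d, Matrix.mul_apply, Fin.sum_univ_two, Matrix.vecMul, dotProduct] at h00 h01
            have z00 : z.1 0 0 = 0 := by
              have : (2 : F) * a * z.1 0 0 = 0 := by linear_combination h00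
              exact (mul_eq_zero.mp this).resolve_left (mul_ne_zero h2 ha0)
            have hne : z.1 0 1 ≠ 0 := fun h0 => by
              rw [z00, h0] at hzdet; simp at hzdet
            have hsum : a + a⁻¹ = 0 := by
              have : z.1 0 1 * (a + a⁻¹) = 0 := by linear_combination h01
              exact (mul_eq_zero.mp this).resolve_left hne
            have hsq : a * a = -1 := by
              have h3 : a * a + a * a⁻¹ = 0 := by rw [← mul_add, hsum, mul_zero]
              rw [mul_inv_cancel₀ ha0] at h3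
              linear_combination h3
            have h11 : z.1 1 1 = 0 := by
              have := trace_zero_of_anti h2 z.1 d.1 d.2 e
              rwa [z00, zero_add] at this
            refine ⟨a, exists_eigen _ _ ?_⟩
            linear_combination hsq + hzdet + (-a) * z00 - a * h11
      rcases hxz with e | e
      · refine ⟨v, hv, ?_⟩
        have hzx : z.1 *ᵥ (x.1 *ᵥ v) = l • (x.1 *ᵥ v) := by
          rw [Matrix.mulVec_mulVec, e, ← Matrix.mulVec_mulVec, hzv, Matrix.mulVec_smul]
        obtain ⟨c, hc⟩ := eigen_unique _ hns hv hzv hzx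
        exact ⟨c, hc.symm⟩
      · by_cases h2 : (2 : F) = 0
        · have e' : z.1 * x.1 = x.1 * z.1 := by
            rw [e]
            ext i j
            rw [Matrix.neg_apply]
            linear_combination -(x.1 * z.1) i j * h2
          refine ⟨v, hv, ?_⟩
          have hzx : z.1 *ᵥ (x.1 *ᵥ v) = l • (x.1 *ᵥ v) := by
            rw [Matrix.mulVec_mulVec, e', ← Matrix.mulVec_mulVec, hzv, Matrix.mulVec_smul]
          obtain ⟨c, hc⟩ := eigen_unique _ hns hv hzv hzx
          exact ⟨c, hc.symm⟩
        · have tz := trace_zero_of_anti h2 z.1 x.1 x.2 e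
          have tx := trace_zero_of_anti h2 x.1 z.1 z.2 (by rw [e, neg_neg])
          have hxdet : x.1 0 0 * x.1 1 1 - x.1 0 1 * x.1 1 0 = 1 := by
            rw [← Matrix.det_fin_two]; exact x.2
          have hl : l * l = -1 := by
            have hz2 : z.1 * z.1 = -1 := by
              ext i j
              fin_cases i <;> fin_cases j <;> simp [Matrix.mul_apply, Fin.sum_univ_two]
              · linear_combination z.1 0 0 * tz - hzdet
              · linear_combination z.1 0 1 * tz
              · linear_combination z.1 1 0 * tz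
              · linear_combination z.1 1 1 * tz - hzdet
            have := congrArg (fun M : Matrix (Fin 2) (Fin 2) F => M *ᵥ v) hz2
            simp only [← Matrix.mulVec_mulVec, hzv, Matrix.mulVec_smul, Matrix.neg_mulVec,
              Matrix.one_mulVec, smul_smul] at this
            obtain ⟨i, hi⟩ := Function.ne_iff.mp hv
            have h3 := congrFun this i
            simp at h3
            exact mul_right_cancel₀ hi (by linear_combination h3)
          obtain ⟨w, hw, hxw⟩ := exists_eigen x.1 l (by linear_combination hl + hxdet - l * tx)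
          exact ⟨w, hw, l, hxw⟩

end Cfsg.Agent.NilCover
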