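import Mathlib

/-!
# Minimal covers cannot consist of nilpotent subgroups

If two non-commuting elements of prime order `p`, with `p ^ 2` not dividing the group order, have
their centralisers in one proper subgroup `K`, then two members of a nilpotent cover lie in `K`
and may be merged, so a nilpotent cover is never minimal.
-/

set_option autoImplicit false

namespace Cfsg.Agent.NilCover

open Equiv Equiv.Perm

variable {G : Type*} [Group G]

/-- In a finite nilpotent group a subgroup of order `p` that is a Sylow subgroup is central. -/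
theorem nilpotent_le_centralizer [Finite G] {p : ℕ} (hp : p.Prime) (hp2 : ¬ p ^ 2 ∣ Nat.card G)
    {c : G} (hc : orderOf c = p) {H : Subgroup G} (hH : Group.IsNilpotent ↥H) (hcH : c ∈ H) :
    H ≤ Subgroup.centralizer ({c} : Set G) := by
  haveI := Fact.mk hp
  let cH : ↥H := ⟨c, hcH⟩
  have hcard : Nat.card (Subgroup.zpowers cH) = p := by
    rw [Nat.card_zpowers, ← Subgroup.orderOf_coe]; exact hc
  have hpg : IsPGroup p ↥(Subgroup.zpowers cH) := IsPGroup.of_card (n := 1) (by simpa using hcard)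
  obtain ⟨P, hle⟩ := hpg.exists_le_sylow
  have hPeq : (P : Subgroup ↥H) = Subgroup.zpowers cH := by
    obtain ⟨k, hk⟩ := IsPGroup.iff_card.1 P.isPGroup'
    refine (Subgroup.eq_of_le_of_card_ge hle ?_).symm
    rw [hcard, hk]
    have hd : p ^ k ∣ Nat.card G := by
      rw [← hk]
      exact (Subgroup.card_subgroup_dvd_card _).trans (Subgroup.card_subgroup_dvd_card H)
    have hk1 : k ≤ 1 := by
      by_contra hcon
      exact hp2 ((pow_dvd_pow p (by omega)).trans hd)
    calc p ^ k ≤ p ^ 1 := Nat.pow_le_pow_right hp.pos hk1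
      _ = p := pow_one p
  haveI hN : (Subgroup.zpowers cH).Normal := hPeq ▸ (inferInstance : (P : Subgroup ↥H).Normal)
  have hbot : ⁅Subgroup.zpowers cH, (⊤ : Subgroup ↥H)⁆ = ⊥ := by
    by_contra hne
    have hle' : ⁅Subgroup.zpowers cH, (⊤ : Subgroup ↥H)⁆ ≤ Subgroup.zpowers cH :=
      Subgroup.commutator_le_left _ _
    have heq : ⁅Subgroup.zpowers cH, (⊤ : Subgroup ↥H)⁆ = Subgroup.zpowers cH := by
      refine Subgroup.eq_of_le_of_card_ge hle' ?_
      rcases (Nat.dvd_prime hp).1 (hcard ▸ Subgroup.card_dvd_of_le hle') with h | h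
      · exact absurd (Subgroup.eq_bot_of_card_eq _ h) hne
      · rw [hcard, h]
    have hall : ∀ n, Subgroup.zpowers cH ≤ (⊤ : Subgroup ↥H).lowerCentralSeries n := by
      intro n
      induction n with
      | zero => exact le_top
      | succ n ih =>
        rw [Subgroup.lowerCentralSeries_succ, ← heq]
        exact Subgroup.commutator_mono ih le_rfl
    haveI := hH
    have h1 := hall (Group.nilpotencyClass ↥H)
    rw [Subgroup.lowerCentralSeries_nilpotencyClass] at h1
    rw [le_bot_iff.1 h1, Subgroup.card_bot] at hcard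
    exact hp.ne_one hcard.symm
  intro g hg
  have h2 := Subgroup.commutator_eq_bot_iff_le_centralizer.1 hbot (Subgroup.mem_zpowers cH)
  rw [Subgroup.mem_centralizer_iff] at h2
  have h3 := h2 ⟨g, hg⟩ (Subgroup.mem_top _)
  rw [Subgroup.mem_centralizer_singleton_iff]
  exact congrArg Subtype.val h3

/-- The merging argument. -/
theorem no_nilpotent_minimal_cover [Finite G] {p : ℕ} (hp : p.Prime)
    (hp2 : ¬ p ^ 2 ∣ Nat.card G) (c c' : G) (hc : orderOf c = p) (hc' : orderOf c' = p)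
    (hne : ¬ Commute c c') (K : Subgroup G) (hK : K ≠ ⊤)
    (h1 : Subgroup.centralizer ({c} : Set G) ≤ K) (h2 : Subgroup.centralizer ({c'} : Set G) ≤ K) :
    ¬ ∃ 𝓐 : Finset (Subgroup G), ((∀ A ∈ 𝓐, A ≠ ⊤) ∧ (∀ g : G, ∃ A ∈ 𝓐, g ∈ A)) ∧
      (∀ 𝓑 : Finset (Subgroup G), (∀ A ∈ 𝓑, A ≠ ⊤) ∧ (∀ g : G, ∃ A ∈ 𝓑, g ∈ A) →
        𝓐.card ≤ 𝓑.card) ∧ (∀ A ∈ 𝓐, Group.IsNilpotent ↥A) := by
  classical
  rintro ⟨𝓐, ⟨hprop, hcov⟩, hmin, hnil⟩
  obtain ⟨A, hA, hcA⟩ := hcov c
  obtain ⟨A', hA', hcA'⟩ := hcov c'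
  have hAc := nilpotent_le_centralizer hp hp2 hc (hnil A hA) hcA
  have hAc' := nilpotent_le_centralizer hp hp2 hc' (hnil A' hA') hcA'
  have hAA' : A ≠ A' := fun h => hne
    (Subgroup.mem_centralizer_singleton_iff.1 (hAc (h ▸ hcA')) : c' * c = c * c').symm
  let 𝓑 := insert K ((𝓐.erase A).erase A')
  have hB : (∀ B ∈ 𝓑, B ≠ ⊤) ∧ (∀ g : G, ∃ B ∈ 𝓑, g ∈ B) := by
    constructor
    · intro B hB
      rcases Finset.mem_insert.1 hB with rfl | hB
      · exact hK
      · exact hprop B (Finset.mem_of_mem_erase (Finset.mem_of_mem_erase hB))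
    · intro g
      obtain ⟨B, hB, hgB⟩ := hcov g
      by_cases h : B = A ∨ B = A'
      · refine ⟨K, Finset.mem_insert_self _ _, ?_⟩
        rcases h with rfl | rfl
        · exact h1 (hAc hgB)
        · exact h2 (hAc' hgB)
      · push Not at h
        exact ⟨B, Finset.mem_insert_of_mem
          (Finset.mem_erase.2 ⟨h.2, Finset.mem_erase.2 ⟨h.1, hB⟩⟩), hgB⟩
  have h := hmin 𝓑 hB
  have hlt : 𝓑.card ≤ ((𝓐.erase A).erase A').card + 1 := Finset.card_insert_le _ _
  have e1 := Finset.card_erase_of_mem hA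
  have e2 := Finset.card_erase_of_mem (Finset.mem_erase.2 ⟨hAA'.symm, hA'⟩)
  have h4 : 1 < 𝓐.card := Finset.one_lt_card.2 ⟨A, hA, A', hA', hAA'⟩
  omega

theorem not_sq_dvd_factorial {p : ℕ} (hp : p.Prime) :
    ∀ n : ℕ, n < 2 * p → ¬ p ^ 2 ∣ n.factorial := by
  intro n hn
  induction n with
  | zero =>
    intro h
    rw [Nat.factorial_zero, Nat.dvd_one] at h
    exact hp.ne_one (by simpa using h)
  | succ m ih =>
    intro h
    rw [Nat.factorial_succ] at h
    by_cases hd : p ∣ m + 1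
    · obtain ⟨t, ht⟩ := hd
      have ht1 : t = 1 := by
        rcases Nat.lt_or_ge t 2 with h' | h'
        · interval_cases t <;> omega
        · nlinarith
      subst ht1
      rw [ht, mul_one, pow_two] at h
      have h5 : p ∣ m.factorial := Nat.dvd_of_mul_dvd_mul_left hp.pos h
      have := hp.dvd_factorial.1 h5
      omega
    · exact ih (by omega)
        (((Nat.Coprime.pow_left 2 ((Nat.Prime.coprime_iff_not_dvd hp).2 hd))).dvd_of_dvd_mul_left h)

/-- Two non-commuting `p`-cycles on the first `p` points, `5 ≤ p < n < 2 p`. -/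
theorem exists_cycles {n p : ℕ} (hp : p.Prime) (hp5 : 5 ≤ p) (hpn : p < n) :
    ∃ c c' : Perm (Fin n), orderOf c = p ∧ orderOf c' = p ∧ sign c = 1 ∧ sign c' = 1 ∧
      ¬ Commute c c' ∧
      (∀ g : Perm (Fin n), Commute g c → ∀ i, ((g i).val < p ↔ i.val < p)) ∧
      (∀ g : Perm (Fin n), Commute g c' → ∀ i, ((g i).val < p ↔ i.val < p)) := by
  haveI : NeZero n := ⟨by omega⟩
  obtain ⟨l, hl⟩ : ∃ l : Fin n, l.val = p - 1 := ⟨⟨p - 1, by omega⟩, rfl⟩
  have hl0 : l ≠ 0 := fun h => by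
    have := congrArg Fin.val h
    simp only [Fin.val_zero] at this
    omega
  generalize hc : Fin.cycleRange l = c
  have hord : orderOf c = p := by
    rw [← hc, ← Equiv.Perm.lcm_cycleType, Fin.cycleType_cycleRange hl0]
    simp; omega
  have hsign : sign c = 1 := by
    rw [← hc, Fin.sign_cycleRange, hl]
    exact Even.neg_one_pow (by
      rcases hp.eq_two_or_odd with h | h
      · omega
      · exact Nat.even_iff.2 (by omega))
  have hmove : ∀ i, c i ≠ i ↔ i.val < p := by
    intro i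
    rw [← hc]
    constructor
    · intro h
      by_contra hcon
      exact h (Fin.cycleRange_of_gt (Fin.lt_def.2 (by omega)))
    · intro h heq
      rcases Nat.lt_or_ge i.val (p - 1) with h' | h'
      · have := Fin.coe_cycleRange_of_lt (i := i) (j := l) (Fin.lt_def.2 (by omega))
        rw [heq] at this
        omega
      · have hil : i = l := Fin.ext (by omega)
        rw [Fin.cycleRange_of_eq hil] at heq
        exact hl0 (hil ▸ heq.symm)
  obtain ⟨a, ha⟩ : ∃ a : Fin n, a.val = 0 := ⟨⟨0, by omega⟩, rfl⟩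
  obtain ⟨b, hb⟩ : ∃ b : Fin n, b.val = 1 := ⟨⟨1, by omega⟩, rfl⟩
  obtain ⟨d, hd⟩ : ∃ b : Fin n, b.val = 2 := ⟨⟨2, by omega⟩, rfl⟩
  obtain ⟨e, he⟩ : ∃ b : Fin n, b.val = 3 := ⟨⟨3, by omega⟩, rfl⟩
  let τ := Equiv.swap a b
  have hτ : ∀ i, (τ i).val < p ↔ i.val < p := by
    intro i
    rcases eq_or_ne i a with rfl | hia
    · rw [show τ i = b from Equiv.swap_apply_left _ _]; omega
    · rcases eq_or_ne i b with rfl | hib
      · rw [show τ i = a from Equiv.swap_apply_right _ _]; omega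
      · rw [show τ i = i from Equiv.swap_apply_of_ne_of_ne hia hib]
  refine ⟨c, τ * c * τ⁻¹, hord, ?_, hsign, ?_, ?_, ?_, ?_⟩
  · rw [← hord]; exact ((SemiconjBy.conj_mk τ c).orderOf_eq τ).symm
  · simp [map_mul, hsign]
  · intro hcomm
    have hab : c a = b := by
      rw [← hc]
      exact Fin.ext (by rw [Fin.coe_cycleRange_of_lt (Fin.lt_def.2 (by omega))]; omega)
    have hbd : c b = d := by
      rw [← hc]
      exact Fin.ext (by rw [Fin.coe_cycleRange_of_lt (Fin.lt_def.2 (by omega))]; omega)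
    have hde : c d = e := by
      rw [← hc]
      exact Fin.ext (by rw [Fin.coe_cycleRange_of_lt (Fin.lt_def.2 (by omega))]; omega)
    have h := congrArg (fun σ : Perm (Fin n) => σ b) hcomm.eq
    have t1 : τ⁻¹ b = a := by simp [τ]
    have t2 : τ b = a := by simp [τ]
    have t3 : τ⁻¹ d = d := by
      simp only [τ, Equiv.swap_inv]
      exact Equiv.swap_apply_of_ne_of_ne (Fin.ne_of_val_ne (by omega)) (Fin.ne_of_val_ne (by omega))
    have t4 : τ e = e := Equiv.swap_apply_of_ne_of_ne (Fin.ne_of_val_ne (by omega))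
      (Fin.ne_of_val_ne (by omega))
    simp only [Equiv.Perm.mul_apply, t1, hab, t2, hbd, t3, hde, t4] at h
    have := congrArg Fin.val h
    omega
  · intro g hg i
    have hgi : c (g i) = g (c i) := (congrArg (fun σ : Perm (Fin n) => σ i) hg.eq).symm
    rw [← hmove, ← hmove i, hgi]
    exact g.injective.ne_iff
  · intro g hg i
    have hgi : τ (c (τ⁻¹ (g i))) = g (τ (c (τ⁻¹ i))) :=
      (congrArg (fun σ : Perm (Fin n) => σ i) hg.eq).symm
    have key : ∀ j, τ (c (τ⁻¹ j)) ≠ j ↔ j.val < p := by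
      intro j
      obtain ⟨k, rfl⟩ := τ.surjective j
      rw [show τ⁻¹ (τ k) = k from τ.symm_apply_apply k, τ.injective.ne_iff, hmove, hτ]
    rw [← key, ← key i, hgi]
    exact g.injective.ne_iff

/-- The setwise stabiliser of the first `p` points. -/
def firstStab (n p : ℕ) : Subgroup (Perm (Fin n)) where
  carrier := {g | ∀ i, ((g i).val < p ↔ i.val < p)}
  one_mem' := fun i => by simp
  mul_mem' := fun {g h} hg hh i => (hg (h i)).trans (hh i)
  inv_mem' := fun {g} hg i => by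
    have := hg (g⁻¹ i)
    rw [show g (g⁻¹ i) = i from g.apply_symm_apply i] at this
    exact this.symm

theorem firstStab_ne_top {n p : ℕ} (hp5 : 5 ≤ p) (hpn : p < n) :
    ∃ g : Perm (Fin n), sign g = 1 ∧ g ∉ firstStab n p := by
  refine ⟨Equiv.swap ⟨0, by omega⟩ ⟨p, hpn⟩ * Equiv.swap ⟨1, by omega⟩ ⟨2, by omega⟩, ?_, ?_⟩
  · rw [map_mul, sign_swap (Fin.ne_of_val_ne (show (0 : ℕ) ≠ p by omega)),
      sign_swap (Fin.ne_of_val_ne (show (1 : ℕ) ≠ 2 by omega))]
    decide
  · intro h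
    have h1 := (h ⟨0, by omega⟩).2 (show (0 : ℕ) < p by omega)
    rw [Equiv.Perm.mul_apply,
      Equiv.swap_apply_of_ne_of_ne (x := (⟨0, by omega⟩ : Fin n)) (Fin.ne_of_val_ne (show (0:ℕ) ≠ 1 by omega))
        (Fin.ne_of_val_ne (show (0:ℕ) ≠ 2 by omega)), Equiv.swap_apply_left] at h1
    exact absurd h1 (lt_irrefl p)

theorem exists_prime_between {n : ℕ} (hn : 6 ≤ n) :
    ∃ p : ℕ, p.Prime ∧ 5 ≤ p ∧ p < n ∧ n < 2 * p := by
  obtain ⟨p, hp, h1, h2⟩ := Nat.exists_prime_lt_and_le_two_mul (n / 2) (by omega)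
  refine ⟨p, hp, ?_, ?_, by omega⟩
  · rcases (show p = 4 ∨ 5 ≤ p by omega) with rfl | h
    · exact absurd hp (by decide)
    · exact h
  · rcases hp.eq_two_or_odd with h | h <;> omega

end Cfsg.Agent.NilCover
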