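import Cfsg.Agent.NilCover.Basic
import Cfsg.Agent.PermGroups.Modules
import Cfsg.Agent.OddLocal.Basic

/-!
Groups between `PSL(n,q)` and `PGL(n,q)` have no nilpotent minimal cover.
-/

set_option autoImplicit false

namespace Cfsg.Agent.NilCover

open Matrix Subgroup

variable {n : ℕ} {F : Type*} [Field F] [Fintype F]

/-- The stabiliser of the line through `e`. -/
def stabLine (e : Fin n → F) : Subgroup (GL (Fin n) F) where
  carrier := {g | ∃ c : F, c ≠ 0 ∧ (g : Matrix (Fin n) (Fin n) F) *ᵥ e = c • e}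
  one_mem' := ⟨1, one_ne_zero, by simp⟩
  mul_mem' := by
    rintro a b ⟨c, hc, ha⟩ ⟨d, hd, hb⟩
    exact ⟨c * d, mul_ne_zero hc hd, by
      rw [Units.val_mul, ← Matrix.mulVec_mulVec, hb, Matrix.mulVec_smul, ha, smul_smul, mul_comm]⟩
  inv_mem' := by
    rintro a ⟨c, hc, ha⟩
    refine ⟨c⁻¹, inv_ne_zero hc, ?_⟩
    have h := congrArg (fun v => ((a⁻¹ : GL (Fin n) F) : Matrix (Fin n) (Fin n) F) *ᵥ v) ha
    simp only [Matrix.mulVec_mulVec, Matrix.mulVec_smul] at h
    rw [← Units.val_mul, inv_mul_cancel, Units.val_one, Matrix.one_mulVec] at h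
    conv_rhs => rw [h]
    rw [smul_smul, inv_mul_cancel₀ hc, one_smul]

theorem mem_stabLine_of_eq {e : Fin n → F} (he : e ≠ 0) {g : GL (Fin n) F} {c : F}
    (h : (g : Matrix (Fin n) (Fin n) F) *ᵥ e = c • e) : g ∈ stabLine e := by
  refine ⟨c, fun hc => he ?_, h⟩
  rw [hc, zero_smul] at h
  have := congrArg (fun v => ((g⁻¹ : GL (Fin n) F) : Matrix (Fin n) (Fin n) F) *ᵥ v) h
  simpa [Matrix.mulVec_mulVec, ← Units.val_mul] using this

theorem center_le_stabLine (e : Fin n → F) : center (GL (Fin n) F) ≤ stabLine e := by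
  intro g hg
  by_cases he : e = 0
  · exact ⟨1, one_ne_zero, by simp [he]⟩
  · obtain ⟨c, hc⟩ := GeneralLinearGroup.mem_center_iff_val_mem_range_scalar.mp hg
    refine mem_stabLine_of_eq he (c := c) ?_
    rw [← hc, Matrix.scalar_apply]
    ext i
    simp [Matrix.mulVec_diagonal]

/-- `u` is a `p`-element fixing only the multiples of `e`. -/
structure IsLineElt (p : ℕ) (u : GL (Fin n) F) (e : Fin n → F) : Prop where
  ne_zero : e ≠ 0
  fix : (u : Matrix (Fin n) (Fin n) F) *ᵥ e = e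
  only : ∀ v, (u : Matrix (Fin n) (Fin n) F) *ᵥ v = v → ∃ c : F, c • e = v
  pow : ∃ k : ℕ, u ^ p ^ k = 1

theorem IsLineElt.conj {p : ℕ} {u : GL (Fin n) F} {e : Fin n → F} (hu : IsLineElt p u e)
    (h : GL (Fin n) F) : IsLineElt p (h * u * h⁻¹) ((h : Matrix (Fin n) (Fin n) F) *ᵥ e) where
  ne_zero he := hu.ne_zero (by
    have := congrArg (fun v => ((h⁻¹ : GL (Fin n) F) : Matrix (Fin n) (Fin n) F) *ᵥ v) he
    simpa [Matrix.mulVec_mulVec, ← Units.val_mul] using this)
  fix := by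
    rw [Matrix.mulVec_mulVec, ← Units.val_mul, inv_mul_cancel_right, Units.val_mul,
      ← Matrix.mulVec_mulVec, hu.fix]
  only v hv := by
    have h1 : (u : Matrix (Fin n) (Fin n) F) *ᵥ (((h⁻¹ : GL (Fin n) F) : Matrix (Fin n) (Fin n) F) *ᵥ v)
        = ((h⁻¹ : GL (Fin n) F) : Matrix (Fin n) (Fin n) F) *ᵥ v := by
      have := congrArg (fun v => ((h⁻¹ : GL (Fin n) F) : Matrix (Fin n) (Fin n) F) *ᵥ v) hv
      simp only [Matrix.mulVec_mulVec, ← Units.val_mul] at this ⊢
      rwa [show h⁻¹ * (h * u * h⁻¹) = u * h⁻¹ by group] at this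
    obtain ⟨c, hc⟩ := hu.only _ h1
    refine ⟨c, ?_⟩
    rw [← Matrix.mulVec_smul, hc, Matrix.mulVec_mulVec, ← Units.val_mul, mul_inv_cancel,
      Units.val_one, Matrix.one_mulVec]
  pow := by
    obtain ⟨k, hk⟩ := hu.pow
    exact ⟨k, by rw [conj_pow, hk, mul_one, mul_inv_cancel]⟩

variable {p : ℕ} [Fact p.Prime]

/-- The normal Sylow subgroup of a nilpotent group containing a `p`-element. -/
theorem exists_sylow_mem {H : Subgroup (GL (Fin n) F)} (hH : Group.IsNilpotent H)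
    {u : GL (Fin n) F} (hu : u ∈ H) (hk : ∃ k : ℕ, u ^ p ^ k = 1) (P : Sylow p H) :
    (⟨u, hu⟩ : H) ∈ (P : Subgroup H) := by
  classical
  have hP : (P : Subgroup H).Normal :=
    (Group.isNilpotent_of_finite_tfae.out 0 3 rfl rfl).mp hH p inferInstance P
  obtain ⟨k, hk⟩ := hk
  have hz : IsPGroup p (zpowers (⟨u, hu⟩ : H)) := by
    intro x
    obtain ⟨i, hi⟩ := x.2
    refine ⟨k, Subtype.ext ?_⟩
    push_cast
    rw [← hi]
    simp only
    rw [← zpow_natCast, ← _root_.zpow_mul, mul_comm, _root_.zpow_mul, zpow_natCast,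
      show (⟨u, hu⟩ : H) ^ p ^ k = 1 from Subtype.ext hk, _root_.one_zpow]
  obtain ⟨T, hT⟩ := hz.exists_le_sylow
  obtain ⟨x, hx⟩ := MulAction.exists_smul_eq H P T
  rw [Sylow.smul_eq_of_normal] at hx
  exact hx ▸ hT (mem_zpowers _)

variable [CharP F p]

theorem common_fixed {H : Subgroup (GL (Fin n) F)} (hH : Group.IsNilpotent H)
    {u : GL (Fin n) F} {e : Fin n → F} (hu : u ∈ H) (he : IsLineElt p u e) (P : Sylow p H) :
    ∀ g ∈ (P : Subgroup H), ((g : GL (Fin n) F) : Matrix (Fin n) (Fin n) F) *ᵥ e = e := by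
  classical
  let ρ : Representation F H (Fin n → F) :=
    { toFun := fun g => Matrix.toLin' ((g : GL (Fin n) F) : Matrix (Fin n) (Fin n) F)
      map_one' := by simp; rfl
      map_mul' := fun a b => by simp [Matrix.toLin'_mul]; rfl }
  obtain ⟨w, -, hw0, hw⟩ := PermGroups.exists_fixed_of_isPGroup (K := F) P.2 ρ ⊤
    (fun _ _ _ => Submodule.mem_top) (fun h => he.ne_zero (by
      have : e ∈ (⊥ : Submodule F (Fin n → F)) := h ▸ Submodule.mem_top
      exact (Submodule.mem_bot F).mp this))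
  have hwu := hw _ (exists_sylow_mem hH hu he.pow P)
  obtain ⟨c, hc⟩ := he.only w (by simpa [ρ] using hwu)
  have hc0 : c ≠ 0 := fun h => hw0 (by rw [← hc, h, zero_smul])
  intro g hg
  have h1 : ((g : GL (Fin n) F) : Matrix (Fin n) (Fin n) F) *ᵥ w = w := by simpa [ρ] using hw g hg
  rw [← hc, Matrix.mulVec_smul] at h1
  exact smul_right_injective _ hc0 h1

theorem line_stable {H : Subgroup (GL (Fin n) F)} (hH : Group.IsNilpotent H) {u : GL (Fin n) F}
    {e : Fin n → F} (hu : u ∈ H) (he : IsLineElt p u e) : H ≤ stabLine e := by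
  classical
  intro g hg
  obtain ⟨P⟩ : Nonempty (Sylow p H) := inferInstance
  have hP : (P : Subgroup H).Normal :=
    (Group.isNilpotent_of_finite_tfae.out 0 3 rfl rfl).mp hH p inferInstance P
  have h1 := common_fixed hH hu he P _
    (hP.conj_mem _ (exists_sylow_mem hH hu he.pow P) (⟨g, hg⟩ : H)⁻¹)
  simp only [inv_inv, Subgroup.coe_mul, Subgroup.coe_inv] at h1
  have h2 : (u : Matrix (Fin n) (Fin n) F) *ᵥ ((g : Matrix (Fin n) (Fin n) F) *ᵥ e)
      = (g : Matrix (Fin n) (Fin n) F) *ᵥ e := by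
    have := congrArg (fun v => (g : Matrix (Fin n) (Fin n) F) *ᵥ v) h1
    simp only [Matrix.mulVec_mulVec, ← Units.val_mul] at this ⊢
    rwa [show g * (g⁻¹ * u * g) = u * g by group] at this
  obtain ⟨c, hc⟩ := he.only _ h2
  exact mem_stabLine_of_eq he.ne_zero hc.symm

theorem line_unique {H : Subgroup (GL (Fin n) F)} (hH : Group.IsNilpotent H) {u u' : GL (Fin n) F}
    {e e' : Fin n → F} (hu : u ∈ H) (he : IsLineElt p u e) (hu' : u' ∈ H) (he' : IsLineElt p u' e') :
    ∃ c : F, c • e = e' := by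
  classical
  obtain ⟨P⟩ : Nonempty (Sylow p H) := inferInstance
  exact he.only _ (common_fixed hH hu' he' P _ (exists_sylow_mem hH hu he.pow P))

theorem trace_mul_eq {H : Subgroup (GL (Fin n) F)} (hH : Group.IsNilpotent H) {u u' : GL (Fin n) F}
    (hu : u ∈ H) (hu' : u' ∈ H) (hk : ∃ k : ℕ, u ^ p ^ k = 1) (hk' : ∃ k : ℕ, u' ^ p ^ k = 1) :
    ((u * u' : GL (Fin n) F) : Matrix (Fin n) (Fin n) F).trace = n := by
  classical
  rcases Nat.eq_zero_or_pos n with rfl | hn
  · simp [Matrix.trace]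
  obtain ⟨P⟩ : Nonempty (Sylow p H) := inferInstance
  obtain ⟨k, hk⟩ := P.2 ⟨_, (P : Subgroup H).mul_mem (exists_sylow_mem hH hu hk P) (exists_sylow_mem hH hu' hk' P)⟩
  have hk1 : (u * u') ^ p ^ k = 1 := congrArg (fun x : (P : Subgroup H) => ((x : H) : GL (Fin n) F)) hk
  have : Nonempty (Fin n) := ⟨⟨0, hn⟩⟩
  have hN : IsNilpotent (((u * u' : GL (Fin n) F) : Matrix (Fin n) (Fin n) F) - 1) := by
    refine ⟨p ^ k, ?_⟩
    rw [sub_pow_char_pow_of_commute _ _ (Commute.one_right _), one_pow, ← Units.val_pow_eq_pow_val,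
      hk1, Units.val_one, sub_self]
  have h := (Matrix.isNilpotent_trace_of_isNilpotent hN).eq_zero
  rwa [Matrix.trace_sub, Matrix.trace_one, Fintype.card_fin, sub_eq_zero] at h

/-- The projection onto the projective group. -/
noncomputable def toPGL (n : ℕ) (F : Type*) [Field F] : GL (Fin n) F →* GL (Fin n) F ⧸ center (GL (Fin n) F) :=
  QuotientGroup.mk' _

variable {G : Subgroup (GL (Fin n) F ⧸ center (GL (Fin n) F))}

/-- The matrices whose images lie in `A`. -/
noncomputable def lift (A : Subgroup G) : Subgroup (GL (Fin n) F) :=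
  (A.map G.subtype).comap (toPGL n F)

theorem mem_lift {A : Subgroup G} {g : GL (Fin n) F} {y : G} (hy : (y : GL (Fin n) F ⧸ _) = toPGL n F g)
    (hA : y ∈ A) : g ∈ lift A := ⟨y, hA, hy⟩

theorem lift_nilpotent {A : Subgroup G} (hA : Group.IsNilpotent A) : Group.IsNilpotent (lift A) := by
  haveI : Group.IsNilpotent (A.map G.subtype) :=
    Group.nilpotent_of_mulEquiv (A.equivMapOfInjective G.subtype G.subtype_injective)
  refine Subgroup.isNilpotent_of_ker_le_center ((toPGL n F).subgroupComap (A.map G.subtype)) ?_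
  intro x hx
  have h1 : toPGL n F (x : GL (Fin n) F) = 1 := congrArg Subtype.val hx
  have h2 : (x : GL (Fin n) F) ∈ center (GL (Fin n) F) := (QuotientGroup.eq_one_iff _).mp h1
  exact mem_center_iff.mpr fun y => Subtype.ext (mem_center_iff.mp h2 y)

/-- The image of the line stabiliser in `G`. -/
noncomputable def borel (G : Subgroup (GL (Fin n) F ⧸ center (GL (Fin n) F))) (e : Fin n → F) :
    Subgroup G := ((stabLine e).map (toPGL n F)).subgroupOf G

theorem mem_borel {e : Fin n → F} {A : Subgroup G} (h : lift A ≤ stabLine e) {y : G} (hy : y ∈ A) :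
    y ∈ borel G e := by
  obtain ⟨g, hg⟩ := QuotientGroup.mk'_surjective (center (GL (Fin n) F))
    (y : GL (Fin n) F ⧸ center (GL (Fin n) F))
  exact mem_subgroupOf.mpr ⟨g, h (mem_lift hg.symm hy), hg⟩

theorem borel_ne_top {e : Fin n → F} (s : GL (Fin n) F) (hs : toPGL n F s ∈ G)
    (hse : s ∉ stabLine e) : borel G e ≠ ⊤ := by
  intro h
  obtain ⟨g, hg, he⟩ := mem_subgroupOf.mp (h ▸ mem_top (⟨_, hs⟩ : G) : (⟨_, hs⟩ : G) ∈ borel G e)
  refine hse ?_
  have h1 : g⁻¹ * s ∈ center (GL (Fin n) F) := QuotientGroup.eq.mp he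
  have := (stabLine e).mul_mem hg (center_le_stabLine e h1)
  rwa [mul_inv_cancel_left] at this

end Cfsg.Agent.NilCover
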